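import Mathlib
import Cfsg.Agent.Lib.Helper75.APair.Defs

/-!
# APAIR (S2276): package [OC] `PkgOC`

A `p`-element (`p` odd) on `p ^ d` points which is not a full cycle commutes with an odd
permutation.
-/

set_option autoImplicit false

namespace Cfsg.Agent.Lib.Helper66.APair

open Cfsg.Agent.Lib.Helper75.APair
open Equiv

/-- A permutation with a cycle of length the cardinality of the type is a full cycle. -/
theorem full_of_card_mem_cycleType {Δ : Type} [Fintype Δ] [DecidableEq Δ] (a : Perm Δ)
    (h : Fintype.card Δ ∈ a.cycleType) : Full a := by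
  obtain ⟨c, τ, hac, hdis, hc, hcard⟩ := Perm.mem_cycleType_iff.1 h
  have hsupp : c.support = Finset.univ := (Finset.card_eq_iff_eq_univ _).1 hcard
  have hmove : ∀ x : Δ, c x ≠ x := by
    intro x
    rw [← Perm.mem_support, hsupp]
    exact Finset.mem_univ x
  have hτ : τ = 1 := by
    ext x
    rcases hdis x with h1 | h1
    · exact absurd h1 (hmove x)
    · simpa using h1
  rw [hτ, mul_one] at hac
  intro x y
  rw [hac]
  exact hc.sameCycle (hmove x) (hmove y)

/-- [OC] -/
theorem pkgOC : PkgOC := by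
  intro Δ _ _ p d hp hp3 hcardΔ a ⟨k, hk⟩ hfull
  by_contra hcon
  push Not at hcon
  have hle : Subgroup.centralizer {a} ≤ alternatingGroup Δ := by
    intro σ hσ
    rw [Perm.mem_alternatingGroup]
    rcases Int.units_eq_one_or (Perm.sign σ) with h1 | h1
    · exact h1
    · exfalso
      apply hcon σ h1
      rw [Subgroup.mem_centralizer_iff] at hσ
      exact (hσ a rfl).symm
  obtain ⟨-, hcard, hcount⟩ := Perm.centralizer_le_alternating_iff.1 hle
  have hnd : a.cycleType.Nodup := Multiset.nodup_iff_count_le_one.2 hcount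
  have hp2 : 2 ≤ p := hp.two_le
  -- `d ≥ 1`
  have hd : 1 ≤ d := by
    by_contra hd0
    have hd0' : d = 0 := by omega
    apply hfull
    have hsub : Subsingleton Δ := by
      rw [← Fintype.card_le_one_iff_subsingleton, hcardΔ, hd0']
      simp
    intro x y
    rw [Subsingleton.elim y x]
  -- every cycle length is `p ^ e` with `1 ≤ e < d`
  have hparts : ∀ c ∈ a.cycleType, c ∈ (Finset.Ico 1 d).image (fun e => p ^ e) := by
    intro c hc
    have h1 : c ∣ p ^ k := hk ▸ Perm.dvd_of_mem_cycleType hc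
    obtain ⟨e, -, rfl⟩ := (Nat.dvd_prime_pow hp).1 h1
    have h2 : 2 ≤ p ^ e := Perm.two_le_of_mem_cycleType hc
    have he1 : 1 ≤ e := by
      by_contra he0
      have he0' : e = 0 := by omega
      rw [he0'] at h2
      simp at h2
    have h3 : p ^ e ≤ p ^ d := by
      rw [← hcardΔ]
      exact (Multiset.le_sum_of_mem hc).trans (Perm.sum_cycleType_le a)
    have h4 : p ^ e ≠ p ^ d := by
      intro h5
      apply hfull
      apply full_of_card_mem_cycleType
      rw [hcardΔ, ← h5]
      exact hc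
    have h6 : e < d := by
      have h7 : p ^ e < p ^ d := lt_of_le_of_ne h3 h4
      exact (Nat.pow_lt_pow_iff_right hp2).1 h7
    exact Finset.mem_image.2 ⟨e, Finset.mem_Ico.2 ⟨he1, h6⟩, rfl⟩
  have hsum1 : ∑ c ∈ a.cycleType.toFinset, c = a.cycleType.sum := by
    rw [Finset.sum_eq_multiset_sum, Multiset.toFinset_val, hnd.dedup, Multiset.map_id']
  have hsub : a.cycleType.toFinset ⊆ (Finset.Ico 1 d).image (fun e => p ^ e) := by
    intro c hc
    exact hparts c (Multiset.mem_toFinset.1 hc)
  have hsum2 : ∑ c ∈ a.cycleType.toFinset, c ≤ ∑ c ∈ (Finset.Ico 1 d).image (fun e => p ^ e), c :=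
    Finset.sum_le_sum_of_subset hsub
  have hsum3 : ∑ c ∈ (Finset.Ico 1 d).image (fun e => p ^ e), c = ∑ e ∈ Finset.Ico 1 d, p ^ e := by
    rw [Finset.sum_image]
    intro x _ y _ hxy
    exact Nat.pow_right_injective hp2 hxy
  have hsum4 : ∑ e ∈ Finset.range d, p ^ e = 1 + ∑ e ∈ Finset.Ico 1 d, p ^ e := by
    rw [Finset.range_eq_Ico, Finset.sum_eq_sum_Ico_succ_bot (by omega : 0 < d), pow_zero]
  have hsum5 : ∑ e ∈ Finset.range d, p ^ e < p ^ d :=
    Nat.geomSum_lt hp2 (fun k hk => Finset.mem_range.1 hk)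
  rw [hcardΔ] at hcard
  omega

end Cfsg.Agent.Lib.Helper66.APair
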