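import Mathlib
import Cfsg.Agent.Lib.Helper75.APair.Defs

/-!
# APAIR (S2276): packages [ROT] `PkgRot` and [FC] `PkgFC`
-/

set_option autoImplicit false

namespace Cfsg.Agent.Lib.Helper66.APair

open Cfsg.Agent.Lib.Helper75.APair
open Equiv

/-- [ROT] `finRotate q` is a full cycle. -/
theorem pkgRot : PkgRot := by
  intro q x y
  rcases Nat.lt_or_ge q 2 with h | h
  · have hsub : Subsingleton (Fin q) := by
      interval_cases q
      · exact inferInstance
      · exact inferInstance
    rw [Subsingleton.elim y x]
  · have hc := isCycle_finRotate_of_le h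
    have hs := support_finRotate_of_le h
    have hx : finRotate q x ≠ x := by
      rw [← Perm.mem_support, hs]
      exact Finset.mem_univ x
    have hy : finRotate q y ≠ y := by
      rw [← Perm.mem_support, hs]
      exact Finset.mem_univ y
    exact hc.sameCycle hx hy

/-- A full cycle on a nontrivial type is a cycle with full support. -/
theorem full_isCycle {Δ : Type} [Fintype Δ] [DecidableEq Δ] [Nontrivial Δ] (a : Perm Δ)
    (ha : Full a) : a.IsCycle ∧ a.support = Finset.univ := by
  have hmove : ∀ x : Δ, a x ≠ x := by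
    intro x hx
    obtain ⟨y, hy⟩ := exists_ne x
    exact hy ((ha x y).eq_of_left hx).symm
  obtain ⟨x₀⟩ : Nonempty Δ := inferInstance
  refine ⟨⟨x₀, hmove x₀, fun y _ => ha x₀ y⟩, ?_⟩
  ext x
  simp [hmove x]

/-- [FC] two full cycles are conjugate. -/
theorem pkgFC : PkgFC := by
  intro Δ _ _ a b ha hb
  rcases subsingleton_or_nontrivial Δ with h | h
  · refine ⟨1, ?_⟩
    have : Subsingleton (Perm Δ) := inferInstance
    exact Subsingleton.elim _ _
  · obtain ⟨hac, has⟩ := full_isCycle a ha
    obtain ⟨hbc, hbs⟩ := full_isCycle b hb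
    have hct : b.cycleType = a.cycleType := by
      rw [hac.cycleType, hbc.cycleType, has, hbs]
    obtain ⟨c, hc⟩ := isConj_iff.1 (Perm.isConj_iff_cycleType_eq.2 hct)
    exact ⟨c, hc⟩

end Cfsg.Agent.Lib.Helper66.APair
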